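import Groth.Agent.PBCDLib.Tor
import Groth.Agent.EtBcBridgeLib.Gen
import Groth.Agent.EtPBCProperLib.Main
import Groth.Agent.DerLib.Horseshoe
import Groth.Agent.SpSeqLib.AcyclicComplex
import Groth.Agent.S0620

/-!
# Proper base change for bounded below complexes with torsion cohomology
-/

set_option autoImplicit false
set_option linter.all false
set_option backward.isDefEq.respectTransparency false
set_option backward.isDefEq.respectTransparency.types false
set_option synthInstance.maxHeartbeats 400000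
set_option maxHeartbeats 2000000

universe u

open CategoryTheory CategoryTheory.Limits AlgebraicGeometry Opposite
open Groth.Agent Groth.Agent.EtShLib EtBcBridgeLib EtBcDLib

attribute [local instance] HasDerivedCategory.standard
attribute [local instance] EtSliceLib.pullExact EtBcBridgeLib.pfl_push EtBcBridgeLib.pfc_pull

noncomputable section

namespace PBCDLib

/-- A bounded below complex of `f_*`-acyclic sheaves computes the derived direct image. -/
theorem isIso_uR {A B : Scheme.{u}} (f : A ⟶ B) [DCoh.HasRpushEt A f] (F : CochainComplex (EtCoh.Ab A) ℤ) (a : ℤ)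
    [F.IsStrictlyGE a] (hac : ∀ (n : ℤ) (i : ℕ), 0 < i → IsZero ((EtCoh.Rpush f i).obj (F.X n))) :
    IsIso ((uR f).app ((HomotopyCategory.quotient (EtCoh.Ab A) (ComplexShape.up ℤ)).obj F)) := by
  haveI : (EtCoh.push f).Additive := { }
  obtain ⟨I, i, hI, hinj, -, hi⟩ := Groth.Agent.DerLib.Horseshoe.exists_injective_resolution F a
  haveI := hI
  haveI := hinj
  haveI := hi
  haveI : I.IsKInjective := CochainComplex.isKInjective_of_injective I a
  haveI hq : QuasiIso (((EtCoh.push f).mapHomologicalComplex (ComplexShape.up ℤ)).map i) :=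
    SpSeqLib.quasiIso_map_of_isSAcyclic (EtCoh.push f) i a
      (fun n => (SpSeqLib.isSAcyclic_iff _ _).2 (hac n))
      (fun n => SpSeqLib.isSAcyclic_of_injective _ _)
  let q := (HomotopyCategory.quotient (EtCoh.Ab A) (ComplexShape.up ℤ)).map i
  haveI : IsIso ((DCoh.pushEtKh A f).map q) :=
    Localization.inverts DerivedCategory.Qh (HomotopyCategory.quasiIso (EtCoh.Ab B) (ComplexShape.up ℤ)) _
      ((HomotopyCategory.quotient_map_mem_quasiIso_iff _).2
        ((HomologicalComplex.mem_quasiIso_iff _).2 hq))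
  haveI : IsIso ((DerivedCategory.Qh ⋙ DCoh.RpushEt A f).map q) := by
    haveI : IsIso (DerivedCategory.Qh.map q) :=
      Localization.inverts DerivedCategory.Qh (HomotopyCategory.quasiIso (EtCoh.Ab A) (ComplexShape.up ℤ)) _
        ((HomotopyCategory.quotient_map_mem_quasiIso_iff _).2 ((HomologicalComplex.mem_quasiIso_iff _).2 hi))
    exact Functor.map_isIso (DCoh.RpushEt A f) _
  haveI := Groth.Agent.DerLib.KInjDerived.isIso_app (DCoh.RpushEt A f) (uR f) (enough A) I
  have w := (uR f).naturality q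
  haveI : IsIso ((uR f).app _ ≫ (DerivedCategory.Qh ⋙ DCoh.RpushEt A f).map q) := by
    rw [← w]
    infer_instance
  exact IsIso.of_isIso_comp_right _ ((DerivedCategory.Qh ⋙ DCoh.RpushEt A f).map q)

variable {X Y X' Y' : Scheme.{u}}

/-- The torsion part of an injective sheaf is acyclic for a proper direct image. -/
theorem isZero_Rpush_tor (f : X ⟶ Y) [IsProper f] (J : EtCoh.Ab X) [Injective J] (q : ℕ) (hq : 0 < q) :
    IsZero ((EtCoh.Rpush f q).obj (EtPBCProperLib.tor J)) := by
  refine EtPBCProperLib.isZero_of_geomPt_stalks _ fun s => ?_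
  let R := HenselLib.SH (Y.presheaf.stalk s)
  have hR : Hensel.IsStrictHenselization (Y.presheaf.stalk s) R := inferInstance
  haveI : IsSepClosed (IsLocalRing.ResidueField R) := hR.isSepClosure.sep_closed
  refine ⟨R, inferInstance, inferInstance, inferInstance, inferInstance, inferInstance, ?_⟩
  obtain ⟨e⟩ := Groth.Agent.S0620.result f (EtPBCProperLib.tor J) s R q
  refine e.addCommGroupIsoToAddEquiv.toEquiv.subsingleton_congr.2 ?_
  let W := pullback f (Hens2.specOf Y s R)
  haveI : CompactSpace W := QuasiCompact.compactSpace_of_compactSpace (pullback.snd f (Hens2.specOf Y s R))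
  haveI : QuasiSeparatedSpace W := quasiSeparatedSpace_of_quasiSeparated (pullback.snd f (Hens2.specOf Y s R))
  haveI : (EtCoh.pull (pullback.fst f (Hens2.specOf Y s R))).IsLeftAdjoint :=
    (EtCoh.pullPushAdj _).isLeftAdjoint
  refine EtPBCProperLib.subsingleton_tor J (EtCoh.pull (pullback.fst f (Hens2.specOf Y s R))) q fun n hn => ?_
  obtain ⟨en⟩ := Groth.Agent.S0620.result f (EtPBCProperLib.nTor J n) s R q
  haveI : Subsingleton ((EtCoh.stalk (Hens2.geomPt Y s R)).obj ((EtCoh.Rpush f q).obj (EtPBCProperLib.nTor J n))) :=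
    AddCommGrpCat.subsingleton_of_isZero
      ((EtCoh.stalk (Hens2.geomPt Y s R)).map_isZero (EtPBCProperLib.isZero_Rpush_nTor f J hn q hq))
  exact en.addCommGroupIsoToAddEquiv.toEquiv.subsingleton_congr.1 inferInstance

/-- Base change in degree zero for torsion sheaves. -/
theorem isIso_bc0 (f : X ⟶ Y) (g : Y' ⟶ Y) (f' : X' ⟶ Y') (g' : X' ⟶ X) (h : IsPullback g' f' f g) [IsProper f]
    (F : EtCoh.Ab X) (hF : EtCoh.IsTorsion F) : IsIso (EtCoh.baseChange0 f g f' g' h.w F) := by
  haveI := EtPBCProperLib.isIso_bcQ g f f' g' h F hF 0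
  have e := EtBC.bcQ_zero_compat f g f' g' h.w F
  haveI : IsIso (EtCoh.baseChange0 f g f' g' h.w F ≫
      (EtCoh.push f').toRightDerivedZero.app ((EtCoh.pull g').obj F)) := e ▸ inferInstance
  exact IsIso.of_isIso_comp_right _ ((EtCoh.push f').toRightDerivedZero.app ((EtCoh.pull g').obj F))

/-- Proper base change for bounded below complexes with torsion cohomology. -/
theorem isIso_bcMap (f : X ⟶ Y) (g : Y' ⟶ Y) (f' : X' ⟶ Y') (g' : X' ⟶ X) (h : IsPullback g' f' f g) [IsProper f]
    [DCoh.HasRpushEt X f] [DCoh.HasRpushEt X' f'] [DCoh.HasRpushEt Y' g]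
    (adj : EtBC.pullD g ⊣ DCoh.RpushEt Y' g) (E : DCoh.DEt X) (n : ℤ) [E.IsGE n]
    (hE : ∀ i : ℤ, EtCoh.IsTorsion (DCoh.HDEt E i)) :
    IsIso (EtBC.bcMap f g f' g' h.w adj E) := by
  obtain ⟨K, hK, ⟨eK⟩⟩ := DerivedCategory.exists_iso_Q_obj_of_isGE E n
  haveI := hK
  obtain ⟨I, i, hI, hinj, -, hi⟩ := Groth.Agent.DerLib.Horseshoe.exists_injective_resolution K n
  haveI := hI
  haveI := hinj
  haveI := hi
  have hH : ∀ m, EtCoh.IsTorsion (I.homology m) := fun m =>
    haveI : IsIso (HomologicalComplex.homologyMap i m) := (quasiIsoAt_iff_isIso_homologyMap i m).1 ((quasiIso_iff i).1 hi m)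
    (torsP X).prop_of_iso ((DerivedCategory.homologyFunctor (EtCoh.Ab X) m).mapIso eK ≪≫
      (DerivedCategory.homologyFunctorFactors (EtCoh.Ab X) m).app K ≪≫
      asIso (HomologicalComplex.homologyMap i m)) (hE m)
  haveI : QuasiIso (torIncl I) := quasiIso_torIncl I hinj hH
  haveI := isStrictlyGE_torCx I n
  let T := torCx I
  haveI : (EtCoh.pull g').Additive := (EtCoh.pullPushAdj g').left_adjoint_additive
  let e : E ≅ qh T := eK ≪≫ asIso (DerivedCategory.Q.map i) ≪≫ (asIso (DerivedCategory.Q.map (torIncl I))).symm ≪≫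
    (DerivedCategory.quotientCompQhIso (EtCoh.Ab X)).symm.app T
  rw [isIso_bcMap_congr f g f' g' h.w adj e, isIso_bcMap_adj f g f' g' h.w adj (canAdj g)]
  -- the units are invertible
  have hac : ∀ (m : ℤ) (q : ℕ), 0 < q → IsZero ((EtCoh.Rpush f q).obj (T.X m)) := fun m q hq => by
    haveI := hinj m
    exact isZero_Rpush_tor f (I.X m) q hq
  haveI := isIso_uR f T n hac
  haveI : CochainComplex.IsStrictlyGE (((EtCoh.pull g').mapHomologicalComplex (ComplexShape.up ℤ)).obj T) n := inferInstance
  haveI : IsIso ((uR f').app (pullH g' T)) := by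
    refine isIso_uR f' (((EtCoh.pull g').mapHomologicalComplex (ComplexShape.up ℤ)).obj T) n fun m q hq => ?_
    haveI := EtPBCProperLib.isIso_bcQ g f f' g' h (T.X m) (EtPBCProperLib.isTorsion_tor (I.X m)) q
    exact ((EtCoh.pull g).map_isZero (hac m q hq)).of_iso (asIso (EtBC.bcQ f g f' g' h.w q (T.X m))).symm
  haveI : ∀ m, IsIso ((kappa f g f' g' h.w T).f m) := fun m =>
    isIso_bc0 f g f' g' h (T.X m) (EtPBCProperLib.isTorsion_tor (I.X m))
  haveI : IsIso (kappa f g f' g' h.w T) := HomologicalComplex.Hom.isIso_of_components _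
  haveI : IsIso (midMap f g f' g' h.w T) := by
    unfold midMap
    infer_instance
  haveI : IsIso ((EtBC.pullD g).map ((uR f).app ((HomotopyCategory.quotient (EtCoh.Ab X) (ComplexShape.up ℤ)).obj T)) ≫
      EtBC.bcMap f g f' g' h.w (canAdj g) (qh T)) := by
    rw [unit_bcMap f g f' g' h.w T]
    infer_instance
  exact IsIso.of_isIso_comp_left ((EtBC.pullD g).map ((uR f).app _)) _

end PBCDLib

end
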