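import Groth.Agent.TorsDerLib.Generic
import Groth.Agent.EtPBCProperLib.Torsion

/-!
# The torsion subcomplex of a complex of injective sheaves
-/

set_option autoImplicit false
set_option linter.unusedSectionVars false
set_option linter.style.haveILetI false
set_option backward.isDefEq.respectTransparency false
set_option backward.isDefEq.respectTransparency.types false
set_option maxHeartbeats 1000000
set_option synthInstance.maxHeartbeats 400000

universe u

open CategoryTheory CategoryTheory.Limits AlgebraicGeometry Opposite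
open Groth.Agent Groth.Agent.EtShLib EtPBCProperLib

noncomputable section

namespace PBCDLib

variable {X : Scheme.{u}}

/-- The property of being torsion. -/
abbrev torsP (X : Scheme.{u}) : ObjectProperty (EtCoh.Ab X) := fun F => EtCoh.IsTorsion F

theorem isTorsion_iff (F : EtCoh.Ab X) : EtCoh.IsTorsion F ↔ TorsionBy (fun n => 0 < n) F :=
  ⟨torsionBy_of_isTorsion, isTorsion_of_torsionBy⟩

theorem prop_mid {S : ShortComplex (EtCoh.Ab X)} (hS : S.Exact) (h1 : torsP X S.X₁) (h3 : torsP X S.X₃) :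
    torsP X S.X₂ := by
  simp only [torsP, isTorsion_iff] at h1 h3 ⊢
  intro Ω _ _ ξ x
  let T := stk (A := AddCommGrpCat.{u + 1}) ξ
  obtain ⟨m, hm, h⟩ := h3 Ω ξ (T.map S.g x)
  rw [← map_nsmul] at h
  obtain ⟨y, hy⟩ := (ShortComplex.ab_exact_iff _).1 (hS.map T) (m • x) h
  obtain ⟨k, hk, hky⟩ := h1 Ω ξ y
  refine ⟨k * m, Nat.mul_pos hk hm, ?_⟩
  have hy' : T.map S.f y = m • x := hy
  rw [mul_smul, ← hy', ← map_nsmul, hky, map_zero]

theorem prop_sub {F G : EtCoh.Ab X} (ι : F ⟶ G) [Mono ι] (h : torsP X G) : torsP X F := by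
  simp only [torsP, isTorsion_iff] at h ⊢
  exact h.of_mono ι

theorem prop_quot {F G : EtCoh.Ab X} (π : F ⟶ G) [Epi π] (h : torsP X F) : torsP X G := by
  simp only [torsP, isTorsion_iff] at h ⊢
  intro Ω _ _ ξ x
  obtain ⟨b, rfl⟩ := (AddCommGrpCat.epi_iff_surjective ((stk (A := AddCommGrpCat.{u + 1}) ξ).map π)).1 inferInstance x
  obtain ⟨m, hm, hb⟩ := h Ω ξ b
  exact ⟨m, hm, by rw [← map_nsmul, hb, map_zero]⟩

instance isSerreClass_torsP : (torsP X).IsSerreClass where
  exists_zero := by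
    obtain ⟨Z, hZ⟩ := HasZeroObject.zero (C := EtCoh.Ab X)
    refine ⟨Z, hZ, ?_⟩
    show EtCoh.IsTorsion Z
    rw [isTorsion_iff]
    intro Ω _ _ ξ p
    haveI := AddCommGrpCat.subsingleton_of_isZero ((stk (A := AddCommGrpCat.{u + 1}) ξ).map_isZero hZ)
    exact ⟨1, one_pos, Subsingleton.elim _ _⟩
  prop_of_mono f _ h := prop_sub f h
  prop_of_epi f _ h := prop_quot f h
  prop_X₂_of_shortExact hS h1 h3 := prop_mid hS.exact h1 h3

/-- A stalk element of finite order lies in the torsion part. -/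
theorem exists_torι_eq (J : EtCoh.Ab X) {Ω : Type u} [Field Ω] [IsSepClosed Ω]
    (ξ : Spec (CommRingCat.of Ω) ⟶ X) (p : (stk (A := AddCommGrpCat.{u + 1}) ξ).obj J) {m : ℕ} (hm : 0 < m)
    (hp : m • p = 0) : ∃ z, (stk (A := AddCommGrpCat.{u + 1}) ξ).map (torι J) z = p := by
  let S := stk (A := AddCommGrpCat.{u + 1}) ξ
  let T := ShortComplex.mk (kernel.ι (m.factorial • 𝟙 J)) (m.factorial • 𝟙 J) (kernel.condition _)
  have hex := (ShortComplex.exact_of_f_is_kernel T (kernelIsKernel _)).map S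
  obtain ⟨z, hz⟩ : ∃ z, S.map (kernel.ι (m.factorial • 𝟙 J)) z = p := by
    refine (ShortComplex.ab_exact_iff _).1 hex p ?_
    show S.map (m.factorial • 𝟙 J) p = 0
    rw [nsmul_map_stk, CategoryTheory.Functor.map_id]
    show m.factorial • p = 0
    obtain ⟨d, hd⟩ := Nat.dvd_factorial hm le_rfl
    rw [hd, mul_comm, mul_smul, hp, nsmul_zero]
  refine ⟨S.map (colimit.ι (torDiag J) ((AsSmall.up (C := ℕ)).obj m)) z, ?_⟩
  exact (ConcreteCategory.congr_hom ((S.map_comp _ _).symm.trans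
    (congrArg S.map (colimit.ι_desc (torCocone J) ((AsSmall.up (C := ℕ)).obj m)))) z).trans hz

theorem exists_lift {F J : EtCoh.Ab X} (hF : EtCoh.IsTorsion F) (φ : F ⟶ J) :
    ∃ m : F ⟶ tor J, m ≫ torι J = φ := by
  let c := cokernel.π (torι J)
  have hz : φ ≫ c = 0 := by
    apply Sheaf.hom_ext
    ext U x
    refine eq_of_germ (cokernel (torι J)) _ _ fun Ω _ _ ξ u => ?_
    let S := stk (A := AddCommGrpCat.{u + 1}) ξ
    refine (germ_natural_apply ξ (φ ≫ c) U.unop u x).symm.trans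
      (Eq.trans ?_ (germ_natural_apply ξ (0 : F ⟶ cokernel (torι J)) U.unop u x))
    generalize germ (A := AddCommGrpCat.{u + 1}) ξ F U.unop u x = p
    rw [show (stk (A := AddCommGrpCat.{u + 1}) ξ).map (0 : F ⟶ cokernel (torι J)) = 0 from S.map_zero _ _]
    obtain ⟨k, hk, hkp⟩ := torsionBy_of_isTorsion hF Ω ξ p
    obtain ⟨z, hz⟩ := exists_torι_eq J ξ (S.map φ p) hk (by rw [← map_nsmul, hkp, map_zero])
    rw [S.map_comp, ConcreteCategory.comp_apply, ← hz]
    exact (congrArg (fun t => t z) ((S.map_comp _ _).symm.trans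
      ((congrArg S.map (cokernel.condition (torι J))).trans (S.map_zero _ _))) : _)
  exact ⟨Abelian.monoLift (torι J) φ hz, Abelian.monoLift_comp _ _ _⟩

/-- The torsion coreflection. -/
def corefl : TorsDerLib.Coreflection (torsP X) where
  tgt := tor
  ι := torι
  mono := mono_torι
  prop := isTorsion_tor
  lift h φ := (exists_lift h φ).choose
  lift_ι h φ := (exists_lift h φ).choose_spec

/-- Divisible sheaves. -/
def dvd : ObjectProperty (EtCoh.Ab X) := fun F => ∀ n : ℕ, 0 < n → Epi (n • 𝟙 F)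

theorem dvd_of_epi {A B : EtCoh.Ab X} (p : A ⟶ B) [Epi p] (h : dvd A) : dvd B := fun n hn => by
  haveI := h n hn
  refine epi_of_epi_fac (show p ≫ (n • 𝟙 B) = (n • 𝟙 A) ≫ p from ?_)
  simp [Preadditive.comp_nsmul, Preadditive.nsmul_comp]

theorem epi_map {S : ShortComplex (EtCoh.Ab X)} (hS : S.ShortExact) (hD : dvd S.X₁) :
    Epi ((corefl (X := X)).map S.g) := by
  let g' : tor S.X₂ ⟶ tor S.X₃ := (corefl (X := X)).map S.g
  have hg : g' ≫ torι S.X₃ = torι S.X₂ ≫ S.g := (corefl (X := X)).map_ι S.g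
  refine Abelian.epi_of_cokernel_π_eq_zero g' ?_
  apply Sheaf.hom_ext
  ext U x
  refine eq_of_germ (cokernel g') _ _ fun Ω _ _ ξ u => ?_
  let T := stk (A := AddCommGrpCat.{u + 1}) ξ
  refine (germ_natural_apply ξ (cokernel.π g') U.unop u x).symm.trans
    (Eq.trans ?_ (germ_natural_apply ξ (0 : tor S.X₃ ⟶ cokernel g') U.unop u x))
  generalize germ (A := AddCommGrpCat.{u + 1}) ξ (tor S.X₃) U.unop u x = q
  rw [show T.map (0 : tor S.X₃ ⟶ cokernel g') = 0 from T.map_zero _ _]
  obtain ⟨m, hm, hq⟩ := torsionBy_of_isTorsion (isTorsion_tor S.X₃) Ω ξ q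
  haveI := hS.epi_g
  obtain ⟨w, hw⟩ := (AddCommGrpCat.epi_iff_surjective (T.map S.g)).1 inferInstance (T.map (torι S.X₃) q)
  obtain ⟨y, hy⟩ : ∃ y, T.map S.f y = m • w := (ShortComplex.ab_exact_iff _).1 (hS.exact.map T) (m • w) (by
    show T.map S.g (m • w) = 0
    rw [map_nsmul, hw, ← map_nsmul, hq, map_zero])
  haveI := hD m hm
  obtain ⟨y', hy'⟩ := (AddCommGrpCat.epi_iff_surjective (T.map (m • 𝟙 S.X₁))).1 inferInstance y
  rw [nsmul_map_stk, CategoryTheory.Functor.map_id] at hy'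
  change m • y' = y at hy'
  obtain ⟨z, hz⟩ := exists_torι_eq S.X₂ ξ (w - T.map S.f y') hm (by
    rw [smul_sub, sub_eq_zero, ← map_nsmul, hy', hy])
  haveI : Mono (T.map (torι S.X₃)) := inferInstance
  have hzq : T.map g' z = q := by
    refine (AddCommGrpCat.mono_iff_injective (T.map (torι S.X₃))).1 inferInstance ?_
    rw [← ConcreteCategory.comp_apply, ← T.map_comp, hg, T.map_comp, ConcreteCategory.comp_apply, hz, map_sub, hw]
    have h0 : T.map S.g (T.map S.f y') = 0 := by
      rw [← ConcreteCategory.comp_apply, ← T.map_comp, S.zero, T.map_zero]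
      rfl
    rw [h0, sub_zero]
  show T.map (cokernel.π g') q = _
  rw [← hzq]
  exact (congrArg (fun t => t z) ((T.map_comp _ _).symm.trans
    ((congrArg T.map (cokernel.condition g')).trans (T.map_zero _ _))) : _)

/-- The torsion subcomplex. -/
def torCx (I : CochainComplex (EtCoh.Ab X) ℤ) : CochainComplex (EtCoh.Ab X) ℤ :=
  ((torsP X).ι.mapHomologicalComplex (ComplexShape.up ℤ)).obj (TorsDerLib.cx corefl I)

/-- Its inclusion. -/
def torIncl (I : CochainComplex (EtCoh.Ab X) ℤ) : torCx I ⟶ I := TorsDerLib.incl corefl I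

theorem torCx_X (I : CochainComplex (EtCoh.Ab X) ℤ) (n : ℤ) : (torCx I).X n = tor (I.X n) := rfl

theorem quasiIso_torIncl (I : CochainComplex (EtCoh.Ab X) ℤ) (hI : ∀ n, Injective (I.X n))
    (hH : ∀ n, EtCoh.IsTorsion (I.homology n)) : QuasiIso (torIncl I) :=
  TorsDerLib.quasiIso_incl corefl dvd (fun p _ h => dvd_of_epi p h) (fun hS hD => epi_map hS hD) I
    (fun n m hm => by haveI := hI n; exact EtPBCProperLib.epi_nsmul (I.X n) hm) hH

theorem isStrictlyGE_torCx (I : CochainComplex (EtCoh.Ab X) ℤ) (a : ℤ) [I.IsStrictlyGE a] :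
    (torCx I).IsStrictlyGE a := by
  rw [CochainComplex.isStrictlyGE_iff]
  intro i hi
  show IsZero (tor (I.X i))
  exact IsZero.of_mono (torι (I.X i)) (CochainComplex.isZero_of_isStrictlyGE I a i hi)

end PBCDLib

end
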